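import Mathlib

/-!
Certificates: from each class representative, a product of conjugates has a power that is a reflection.
-/

set_option autoImplicit false

namespace Cfsg.Agent.Lib.Icosian

/-- Conjugators, exponent and final conjugator for each odd class representative. -/
def reflRowsOdd : List (List (List ℕ) × ℕ × List ℕ) := [
  ([[0, 1, 2, 3, 4, 11], [209, 26, 6, 7, 4, 26]], 4, [7, 23, 9, 6, 7, 11]),
  ([[0, 1, 2, 3, 4, 11], [185, 1, 7, 4, 4, 11]], 3, [17, 1, 2, 3, 4, 11]),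
  ([[0, 1, 2, 3, 4, 11], [133, 13, 3, 7, 7, 26]], 5, [92, 11, 5, 6, 4, 11]),
  ([[0, 1, 2, 3, 4, 11], [125, 25, 5, 8, 7, 26]], 6, [146, 13, 5, 3, 7, 26]),
  ([[0, 1, 2, 3, 4, 11], [120, 24, 3, 7, 7, 11]], 4, [144, 10, 2, 6, 4, 11])]

/-- The same for the central involution of the Sylow 2-subgroup. -/
def reflRowTwo : List (List ℕ) × ℕ × List ℕ :=
  ([[0, 1, 2, 3, 4, 11]], 1, [186, 24, 4, 5, 4, 26])

end Cfsg.Agent.Lib.Icosian
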