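import Cfsg.Agent.Lib.Icosian.Spectrum
import Cfsg.Agent.Lib.Icosian.Orbit
import Cfsg.Agent.Lib.Icosian.SimpleData

/-!
Simplicity of the Hall-Janko group: every non-trivial normal subgroup contains a reflection.
-/

set_option autoImplicit false
set_option maxRecDepth 100000
set_option linter.style.haveILetI false

noncomputable section

namespace Cfsg.Agent.Lib.Icosian

open Cfsg.Spor Compute

/-- A product of conjugates of a code. -/
def prodConj (O : Ops) (L : List Lvl) (z : ℕ) (cs : List (List ℕ)) : ℕ :=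
  cs.foldr (fun p acc => O.mul (O.mul (O.mul (pathEval O L p).1 z) (pathEval O L p).2) acc) O.one

/-- A power of a product of conjugates is conjugate to the code `g0`. -/
def reflRowCheck (O : Ops) (L : List Lvl) (g0 z : ℕ) (row : List (List ℕ) × ℕ × List ℕ) : Bool :=
  forceNat z fun z => forceNat (prodConj O L z row.1) fun w =>
    Nat.beq (powC O w row.2.1) (O.mul (O.mul (pathEval O L row.2.2).1 g0) (pathEval O L row.2.2).2)

/-- A central element of the Sylow 2-subgroup of order two leads to a reflection. -/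
def twoCentralCheck (O : Ops) (L : List Lvl) (g0 z : ℕ) : Bool :=
  forceNat z fun z => Nat.beq z O.one || !Nat.beq (powC O z 2) O.one ||
    !(sylGens2.all fun s => Nat.beq (O.mul z s.1) (O.mul s.1 z)) || reflRowCheck O L g0 z reflRowTwo

theorem reflRowsOdd_check : (List.range 5).all (fun j => reflRowCheck (permOps 9 315) permChain
    (genAt permGens (permOps 9 315) 0).1 (repCodes.getD j (permOps 9 315).one) (reflRowsOdd.getD j ([], 0, []))) = true := by
  decide +kernel

theorem twoCentral_check : (elems (permOps 9 315) sylChain2).all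
    (twoCentralCheck (permOps 9 315) permChain (genAt permGens (permOps 9 315) 0).1) = true := by
  decide +kernel

theorem prodConj_mem {G : Type*} [Group G] {O : Ops} (C : Coding G O) {S : List (ℕ × ℕ)} {L : List Lvl}
    (hS : GensOK C S) (hL : chainCheck O S L = true) {z : G} {M : Subgroup G} (hz : z ∈ M)
    (hN : ∀ g ∈ genGroup C S, ∀ x ∈ M, g * x * g⁻¹ ∈ M) : ∀ cs : List (List ℕ),
    ∃ w ∈ M, C.enc w = prodConj O L (C.enc z) cs := by
  intro cs
  induction cs with
  | nil => exact ⟨1, one_mem _, C.one_enc⟩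
  | cons p cs ih =>
    obtain ⟨w, hw, hwe⟩ := ih
    obtain ⟨c, hc, h1, h2⟩ := pairOK_pathEval C hS hL p
    refine ⟨c * z * c⁻¹ * w, mul_mem (hN c hc z hz) hw, ?_⟩
    simp only [prodConj, List.foldr_cons] at hwe ⊢
    rw [← h1, ← h2, ← hwe, C.mul_enc, C.mul_enc, C.mul_enc]

theorem refl_mem_of_row {G : Type*} [Group G] {O : Ops} (C : Coding G O) {S : List (ℕ × ℕ)} {L : List Lvl}
    (hS : GensOK C S) (hL : chainCheck O S L = true) {z g0 : G} {M : Subgroup G} (hz : z ∈ M)
    (hN : ∀ g ∈ genGroup C S, ∀ x ∈ M, g * x * g⁻¹ ∈ M) {c0 : ℕ} (h0 : C.enc g0 = c0)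
    {row : List (List ℕ) × ℕ × List ℕ}
    (h : reflRowCheck O L c0 (C.enc z) row = true) : g0 ∈ M := by
  subst h0
  obtain ⟨w, hw, hwe⟩ := prodConj_mem C hS hL hz hN row.1
  obtain ⟨c, hc, h1, h2⟩ := pairOK_pathEval C hS hL row.2.2
  simp only [reflRowCheck, forceNat_eq] at h
  rw [← hwe, powC_enc, ← h1, ← h2, C.mul_enc, C.mul_enc] at h
  have h' := C.inj (Nat.eq_of_beq_eq_true h)
  have := hN c⁻¹ (inv_mem hc) _ (pow_mem hw row.2.1)
  rw [h'] at this
  simpa [mul_assoc] using this

theorem range_le_of_refl_mem {M : Subgroup (Equiv.Perm (Fin 315))}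
    (hN : ∀ g ∈ genGroup lineCoding permGens, ∀ x ∈ M, g * x * g⁻¹ ∈ M) (h0 : lineHom (genEl 0) ∈ M) :
    genGroup lineCoding permGens ≤ M := by
  have hrefl : ∀ t, IsIcoReflection (genRefl t) := fun t =>
    ⟨⟨_, toV_mem (genLine_spec t).1⟩, (genLine_spec t).2, fun _ => rfl⟩
  rw [genGroup, Subgroup.closure_le]
  rintro g ⟨p, hp, hg⟩
  obtain ⟨t, rfl⟩ := mem_permGens hp
  rw [show g = lineHom (genEl t) from lineCoding.inj (hg.trans (enc_gen t).symm)]
  obtain ⟨i, hi⟩ := exists_lineRefl (hrefl 0)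
  obtain ⟨j, hj⟩ := exists_lineRefl (hrefl t)
  obtain ⟨a, ha⟩ := exists_conj i j
  have : genEl t = a * genEl 0 * a⁻¹ := Subtype.ext (by
    show genRefl t = a.1 * genRefl 0 * a.1⁻¹
    rw [← hi, ← hj, ha])
  rw [this, map_mul, map_mul, map_inv]
  exact hN _ (lineHom_range ▸ ⟨a, rfl⟩) _ h0

theorem isSimpleGroup_lines : IsSimpleGroup (genGroup lineCoding permGens) := by
  set H := genGroup lineCoding permGens with hH
  haveI : Nontrivial H := Finite.one_lt_card_iff_nontrivial.1 (by rw [hH, card_genGroup_lines]; norm_num)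
  refine ⟨fun K hK => or_iff_not_imp_left.2 fun hne => ?_⟩
  set M := K.map H.subtype with hM
  have hN : ∀ g ∈ H, ∀ x ∈ M, g * x * g⁻¹ ∈ M := by
    rintro g hg _ ⟨x, hx, rfl⟩
    exact ⟨⟨g, hg⟩ * x * ⟨g, hg⟩⁻¹, hK.conj_mem x hx _, rfl⟩
  suffices h0 : lineHom (genEl 0) ∈ M by
    refine Subgroup.map_injective H.subtype_injective ?_
    rw [← MonoidHom.range_eq_map, Subgroup.range_subtype]
    exact le_antisymm (Subgroup.map_subtype_le K) (range_le_of_refl_mem hN h0)
  have hK1 : Nat.card K ≠ 1 := fun h => hne (Subgroup.eq_bot_of_card_eq K h)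
  obtain ⟨q, hq, hqK⟩ := Nat.exists_prime_and_dvd hK1
  haveI := Fact.mk hq
  have hq' : q = 2 ∨ q = 3 ∨ q = 5 ∨ q = 7 := by
    have h := hqK.trans K.card_subgroup_dvd_card
    rw [hH, card_genGroup_lines] at h
    have h1 : q ∣ 2 ^ 7 * (3 ^ 3 * (5 ^ 2 * 7)) := by simpa using h
    rcases hq.dvd_mul.1 h1 with h | h
    · exact Or.inl ((Nat.prime_dvd_prime_iff_eq hq Nat.prime_two).1 (hq.dvd_of_dvd_pow h))
    rcases hq.dvd_mul.1 h with h | h
    · exact Or.inr (Or.inl ((Nat.prime_dvd_prime_iff_eq hq Nat.prime_three).1 (hq.dvd_of_dvd_pow h)))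
    rcases hq.dvd_mul.1 h with h | h
    · exact Or.inr (Or.inr (Or.inl ((Nat.prime_dvd_prime_iff_eq hq (by norm_num)).1 (hq.dvd_of_dvd_pow h))))
    · exact Or.inr (Or.inr (Or.inr ((Nat.prime_dvd_prime_iff_eq hq (by norm_num)).1 h)))
  obtain ⟨y, hy⟩ := exists_prime_orderOf_dvd_card' (G := K) q hqK
  have hyo : orderOf ((y : H) : Equiv.Perm (Fin 315)) = q := by rw [Subgroup.orderOf_coe, Subgroup.orderOf_coe, hy]
  have hyM : ((y : H) : Equiv.Perm (Fin 315)) ∈ M := ⟨y, y.2, rfl⟩
  have hodd : ∀ {a m : ℕ} {T : List (ℕ × ℕ)} {Lq : List Lvl} {rows : List (List ℕ × ℕ × ℕ × ℕ)},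
      T.all (pairCheck 9 315 permChain) = true →
      chainCheck (permOps 9 315) T Lq = true ∧ chainSize Lq = q ^ a →
      rowsCheck (permOps 9 315) permChain repCodes q (elems (permOps 9 315) Lq) rows = true →
      604800 = q ^ a * m → ¬ q ∣ m → lineHom (genEl 0) ∈ M := by
    intro a m T Lq rows hpairs hchain hrows hN' hm
    obtain ⟨hT, hle⟩ := gensOK_of_pairCheck (Equiv.refl (Fin 315)) (by norm_num) gensOK_lines chain_ok hpairs
    obtain ⟨c, hc, hcy⟩ := exists_conj_mem_sylow hle hq
      ((card_genGroup lineCoding hT hchain.1).trans hchain.2) (card_genGroup_lines.trans hN') hm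
      (y : H).2 (k := 1) (by rw [pow_one, ← hyo, pow_orderOf_eq_one])
    obtain ⟨⟨p, j, k, ki⟩, hrow⟩ := rowsCheck_row hrows _ (enc_mem_elems lineCoding hT hchain.1 hcy)
    simp only [rowCheck, forceNat_eq, Bool.or_eq_true] at hrow
    rcases hrow with hone | hrow
    · exfalso
      have h1 := lineCoding.inj ((Nat.eq_of_beq_eq_true hone).trans lineCoding.one_enc.symm)
      rw [conj_eq_one_iff] at h1
      rw [h1, orderOf_one] at hyo
      exact hq.ne_one hyo.symm
    simp only [Bool.and_eq_true, Nat.blt_eq] at hrow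
    obtain ⟨⟨⟨hj, hconj⟩, hrq⟩, hki⟩ := hrow
    obtain ⟨r, -, hr⟩ := repCodes_good j hj
    obtain ⟨g, hg, hg1, -⟩ := pairOK_pathEval lineCoding gensOK_lines chain_ok p
    rw [← hg1, ← hr, powC_enc, lineCoding.mul_enc, lineCoding.mul_enc] at hconj
    rw [← hr, powC_enc] at hrq
    have hrk : r ^ k ∈ M := by
      rw [← mul_inv_eq_iff_eq_mul.2 (lineCoding.inj (Nat.eq_of_beq_eq_true hconj))]
      exact hN g hg _ (hN c hc _ hyM)
    have hrM : r ∈ M := by
      have : r = (r ^ k) ^ ki := by
        rw [← pow_mul, ← Nat.div_add_mod (k * ki) q, Nat.eq_of_beq_eq_true hki, pow_add, pow_mul,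
          lineCoding.inj ((Nat.eq_of_beq_eq_true hrq).trans lineCoding.one_enc.symm), one_pow, one_mul, pow_one]
      exact this ▸ pow_mem hrk ki
    have := List.all_eq_true.1 reflRowsOdd_check j (List.mem_range.2 (repCodes_length ▸ hj))
    rw [← hr] at this
    exact refl_mem_of_row lineCoding gensOK_lines chain_ok hrM hN (enc_gen 0) this
  rcases hq' with rfl | rfl | rfl | rfl
  · obtain ⟨hT, hle⟩ := gensOK_of_pairCheck (Equiv.refl (Fin 315)) (by norm_num) gensOK_lines chain_ok syl2_pairs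
    let P : Sylow 2 H := Sylow.ofCard ((genGroup lineCoding sylGens2).subgroupOf H) (by
      have h1 : Nat.card (genGroup lineCoding sylGens2) = 2 ^ 7 :=
        (card_genGroup lineCoding hT syl2_chain.1).trans syl2_chain.2
      refine ((Nat.card_congr (Subgroup.subgroupOfEquivOfLe hle).toEquiv).trans h1).trans ?_
      rw [hH, card_genGroup_lines, show 604800 = 2 ^ 7 * 4725 by norm_num,
        Nat.factorization_mul (by norm_num) (by norm_num), Finsupp.add_apply,
        Nat.prime_two.factorization_pow, Finsupp.single_eq_same,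
        Nat.factorization_eq_zero_of_not_dvd (by norm_num), add_zero])
    obtain ⟨z, hzK, hzP, hzo, hzc⟩ := exists_central_of_prime_dvd P hqK
    have hzP' : (z : Equiv.Perm (Fin 315)) ∈ genGroup lineCoding sylGens2 := hzP
    have he := List.all_eq_true.1 twoCentral_check _ (enc_mem_elems lineCoding hT syl2_chain.1 hzP')
    simp only [twoCentralCheck, forceNat_eq, Bool.or_eq_true, Bool.not_eq_true'] at he
    rcases he with ((he | he) | he) | he
    · exfalso
      have : (z : Equiv.Perm (Fin 315)) = 1 := lineCoding.inj ((Nat.eq_of_beq_eq_true he).trans lineCoding.one_enc.symm)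
      rw [show z = 1 from Subtype.ext this, orderOf_one] at hzo
      omega
    · exfalso
      rw [powC_enc, ← Subgroup.coe_pow, ← hzo, pow_orderOf_eq_one, Subgroup.coe_one, lineCoding.one_enc] at he
      simp at he
    · exfalso
      refine Bool.eq_false_iff.1 he (List.all_eq_true.2 fun s hs => ?_)
      obtain ⟨g, -, h1, -⟩ := hT s hs
      have hgP : g ∈ genGroup lineCoding sylGens2 := mem_genGroup_of_enc lineCoding hs h1
      have := congrArg Subtype.val (hzc ⟨g, hle hgP⟩ hgP)
      simp only [Subgroup.coe_mul] at this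
      rw [← h1]
      show Nat.beq ((permOps 9 315).mul (lineCoding.enc z) (lineCoding.enc g))
        ((permOps 9 315).mul (lineCoding.enc g) (lineCoding.enc z)) = true
      rw [lineCoding.mul_enc, lineCoding.mul_enc, this]
      exact Nat.beq_refl _
    · exact refl_mem_of_row lineCoding gensOK_lines chain_ok
        (show (z : Equiv.Perm (Fin 315)) ∈ M from ⟨z, hzK, rfl⟩) hN (enc_gen 0) he
  · exact hodd syl3_pairs syl3_chain syl3_rows (m := 22400) (by norm_num) (by norm_num)
  · exact hodd syl5_pairs syl5_chain syl5_rows (m := 24192) (by norm_num) (by norm_num)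
  · exact hodd syl7_pairs syl7_chain syl7_rows (m := 86400) (by norm_num) (by norm_num)

theorem isSimpleGroup_J2 : IsSimpleGroup J2 := by
  haveI : IsSimpleGroup lineHom.range := lineHom_range ▸ isSimpleGroup_lines
  exact MulEquiv.isSimpleGroup j2Equiv

theorem J2_exists_noncomm : ∃ a b : J2, a * b ≠ b * a := by
  obtain ⟨x, hx⟩ := exists_witness 7 (by simp)
  obtain ⟨y, hy⟩ := exists_witness 15 (by simp)
  by_contra h
  push Not at h
  obtain ⟨n, hn, h1⟩ := J2_exists_exponent (x * y)
  have hd := orderOf_dvd_of_pow_eq_one h1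
  rw [Commute.orderOf_mul_eq_mul_orderOf_of_coprime (h x y) (by rw [hx, hy]; norm_num), hx, hy] at hd
  simp only [List.mem_cons, List.not_mem_nil, or_false] at hn
  rcases hn with rfl | rfl | rfl | rfl | rfl <;> norm_num at hd

end Cfsg.Agent.Lib.Icosian
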