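import Cfsg.Agent.Lib.Compute.Simple
import Cfsg.Agent.Lib.Icosian.PermData
import Cfsg.Agent.Lib.Icosian.UnitData

/-!
Kernel checks for the subgroup of index 100.
-/

set_option autoImplicit false
set_option maxRecDepth 100000

namespace Cfsg.Agent.Lib.Icosian

open Cfsg.Agent.Lib.Compute

/-- The orbit of 63 lines under a code, as a bit set. -/
noncomputable def lineMask (c : ℕ) : ℕ :=
  forceNat c fun c => (unitLines.map fun l => Nat.shiftLeft 1 ((permOps 9 315).act c l)).foldr Nat.add 0

/-- The bit set attached to a coset representative. -/
noncomputable def cosetMask (i : ℕ) : ℕ := lineMask (pathEval (permOps 9 315) permChain (cosetPaths.getD i [])).1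

/-- Every generator maps the listed cosets to listed cosets. -/
noncomputable def orbitClosed (rows : List (ℕ × ℕ × ℕ)) : Bool :=
  rows.all fun r => unitGens.all fun s =>
    forceNat ((permOps 9 315).mul s.1 (pathEval (permOps 9 315) permChain (cosetPaths.getD r.1 [])).1) fun c =>
      forceNat (lineMask c) fun m => rows.any fun q => Nat.beq (cosetMask q.1) m

/-- Every listed coset but the first is the image of an earlier one. -/
noncomputable def orbitLinked (rows : List (ℕ × ℕ × ℕ)) : Bool :=
  (List.range rows.length).all fun p =>
    Nat.beq p 0 ||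
      (Nat.blt (rows.getD p (0, 0, 0)).2.2 p &&
        Nat.blt (rows.getD p (0, 0, 0)).2.1 unitGens.length &&
        forceNat ((permOps 9 315).mul (genAt unitGens (permOps 9 315) (rows.getD p (0, 0, 0)).2.1).1
          (pathEval (permOps 9 315) permChain
            (cosetPaths.getD (rows.getD (rows.getD p (0, 0, 0)).2.2 (0, 0, 0)).1 [])).1) fun c =>
          Nat.beq (lineMask c) (cosetMask (rows.getD p (0, 0, 0)).1))

theorem unit_pairs : unitGens.all (pairCheck 9 315 permChain) = true := by decide +kernel

theorem unit_chain : chainCheck (permOps 9 315) unitGens unitChain = true ∧ chainSize unitChain = 6048 := by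
  decide +kernel

theorem rest_pairs : restGens.all (fun p => permCheck 6 63 p.1 p.2 && Nat.beq (packP 6 (getP 6 p.1) 63) p.1 &&
    Nat.beq (packP 6 (getP 6 p.2) 63) p.2) = true := by decide +kernel

theorem rest_chain : chainCheck (permOps 6 63) restGens restChain = true ∧ chainSize restChain = 6048 := by
  decide +kernel

theorem rest_restricts : unitGens.length = 2 ∧ restGens.length = 2 ∧ ((List.range 2).all fun t =>
    forceNat (genAt unitGens (permOps 9 315) t).1 fun g => forceNat (genAt restGens (permOps 6 63) t).1 fun r =>
      (List.range 63).all fun k =>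
        Nat.blt (getP 6 r k) 63 && Nat.beq (getP 9 g (unitLines.getD k 0)) (unitLines.getD (getP 6 r k) 0)) = true := by
  decide +kernel

/-- No repetitions and bounded. -/
def linesDistinct : List ℕ → ℕ → Bool
  | [], _ => true
  | x :: xs, b => Nat.blt x b && (xs.all fun y => !Nat.beq x y) && linesDistinct xs b

theorem unitLines_ok : unitLines.length = 63 ∧ linesDistinct unitLines 315 = true := by decide +kernel

theorem cosets_ok : cosetPaths.length = 100 ∧ increasing ((List.range 100).map cosetMask) = true := by decide +kernel

theorem orbit36_ok : orbitRows36.length = 36 ∧ orbitRows36.all (fun r => Nat.blt r.1 100) = true ∧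
    orbitClosed orbitRows36 = true ∧ orbitLinked orbitRows36 = true := by decide +kernel

theorem orbit63_ok : orbitRows63.length = 63 ∧ orbitRows63.all (fun r => Nat.blt r.1 100) = true ∧
    orbitClosed orbitRows63 = true ∧ orbitLinked orbitRows63 = true := by decide +kernel

theorem orbit36_nodup : ((List.range 36).all fun p => (List.range p).all fun q =>
    !Nat.beq (orbitRows36.getD p (0, 0, 0)).1 (orbitRows36.getD q (0, 0, 0)).1) = true := by decide +kernel

theorem orbit63_nodup : ((List.range 63).all fun p => (List.range p).all fun q =>
    !Nat.beq (orbitRows63.getD p (0, 0, 0)).1 (orbitRows63.getD q (0, 0, 0)).1) = true := by decide +kernel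

end Cfsg.Agent.Lib.Icosian
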