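import Cfsg.Agent.Lib.Icosian.Orbit
import Cfsg.Agent.Lib.Icosian.UnitChecks
import Cfsg.Agent.Lib.SmallUnitary.NonIsoAction
import Cfsg.Agent.Lib.SmallUnitary.Generation

/-!
A subgroup `PSU₃(3)` of index 100 in the Hall-Janko group, with orbits of 36 and 63 cosets.
-/

set_option autoImplicit false
set_option maxRecDepth 100000
set_option linter.style.haveILetI false

noncomputable section

namespace Cfsg.Agent.Lib.Icosian

open Cfsg.Spor Compute SmallUnitary UThreeThree
open scoped Pointwise

theorem linesDistinct_spec : ∀ {l : List ℕ} {b : ℕ}, linesDistinct l b = true → l.Nodup ∧ ∀ x ∈ l, x < b := by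
  intro l b
  induction l with
  | nil => simp
  | cons x xs ih =>
    intro h
    simp only [linesDistinct, Bool.and_eq_true, List.all_eq_true, Bool.not_eq_true'] at h
    obtain ⟨h1, h2⟩ := ih h.2
    refine ⟨List.nodup_cons.2 ⟨fun hx => ?_, h1⟩, ?_⟩
    · have := h.1.2 x hx
      simp at this
    · intro y hy
      rcases List.mem_cons.1 hy with rfl | hy
      · simpa [Nat.blt_eq] using h.1.1
      · exact h2 y hy

theorem unitLines_getD_lt (k : ℕ) : unitLines.getD k 0 < 315 := by
  rcases Nat.lt_or_ge k unitLines.length with h | h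
  · rw [List.getD_eq_getElem _ _ h]
    exact (linesDistinct_spec unitLines_ok.2).2 _ (List.getElem_mem _)
  · rw [List.getD_eq_default _ _ h]; norm_num

/-- The lines of the orbit of the subgroup. -/
def uLine (k : Fin 63) : Fin 315 := ⟨unitLines.getD k.1 0, unitLines_getD_lt k.1⟩

theorem uLine_injective : Function.Injective uLine := by
  intro i j h
  have h1 : unitLines.getD i.1 0 = unitLines.getD j.1 0 := congrArg Fin.val h
  have hlen := unitLines_ok.1
  rw [List.getD_eq_getElem _ _ (by omega), List.getD_eq_getElem _ _ (by omega)] at h1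
  exact Fin.ext ((List.Nodup.getElem_inj_iff (linesDistinct_spec unitLines_ok.2).1).1 h1)

theorem unitLines_eq : unitLines = List.ofFn fun k : Fin 63 => (uLine k : ℕ) := by
  refine List.ext_getElem (by rw [List.length_ofFn, unitLines_ok.1]) fun i h1 h2 => ?_
  rw [List.getElem_ofFn]
  exact (List.getD_eq_getElem _ _ h1).symm

theorem unitGensOK : GensOK lineCoding unitGens ∧
    genGroup lineCoding unitGens ≤ genGroup lineCoding permGens :=
  gensOK_of_pairCheck (Equiv.refl (Fin 315)) (by norm_num) gensOK_lines chain_ok unit_pairs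

/-- The coding of permutations of the orbit. -/
def restCoding : Coding (Equiv.Perm (Fin 63)) (permOps 6 63) := permCoding 6 (Equiv.refl _) (by norm_num)

theorem restGensOK : GensOK restCoding restGens := by
  intro p hp
  have h := List.all_eq_true.1 rest_pairs p hp
  simp only [Bool.and_eq_true] at h
  exact pairOK_of_permCheck (Equiv.refl (Fin 63)) (by norm_num) h.1.1 (Nat.eq_of_beq_eq_true h.1.2) (Nat.eq_of_beq_eq_true h.2)

theorem card_unit : Nat.card (genGroup lineCoding unitGens) = 6048 :=
  (card_genGroup lineCoding unitGensOK.1 unit_chain.1).trans unit_chain.2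

theorem card_rest : Nat.card (genGroup restCoding restGens) = 6048 :=
  (card_genGroup restCoding restGensOK rest_chain.1).trans rest_chain.2

theorem restrict_gen {t : ℕ} (ht : t < 2) {g : Equiv.Perm (Fin 315)} {r : Equiv.Perm (Fin 63)}
    (hg : lineCoding.enc g = (genAt unitGens (permOps 9 315) t).1)
    (hr : restCoding.enc r = (genAt restGens (permOps 6 63) t).1) (k : Fin 63) : g (uLine k) = uLine (r k) := by
  have h := List.all_eq_true.1 rest_restricts.2.2 t (List.mem_range.2 ht)
  rw [forceNat_eq, forceNat_eq, ← hg, ← hr] at h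
  have hk := List.all_eq_true.1 h k.1 (List.mem_range.2 k.2)
  simp only [Bool.and_eq_true] at hk
  have e := Nat.eq_of_beq_eq_true hk.2
  have eg : getP 9 (lineCoding.enc g) (uLine k).1 = (g (uLine k)).1 := by
    rw [lineCoding, permCoding_enc, getP_encP (by norm_num) _ _ (uLine k).2]
    simp [imgP]
  have er : getP 6 (restCoding.enc r) k.1 = (r k).1 := by
    rw [restCoding, permCoding_enc, getP_encP (by norm_num) _ _ k.2]
    simp [imgP]
  rw [er] at e
  exact Fin.ext (eg.symm.trans e)

theorem exists_restrict {g : Equiv.Perm (Fin 315)} (hg : g ∈ genGroup lineCoding unitGens) :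
    ∃ r ∈ genGroup restCoding restGens, ∀ k, g (uLine k) = uLine (r k) := by
  induction hg using Subgroup.closure_induction with
  | mem g hg =>
    obtain ⟨p, hp, hgp⟩ := hg
    obtain ⟨t, ht, rfl⟩ := List.getElem_of_mem hp
    obtain ⟨r, hr, hr1, -⟩ := pairOK_genAt restCoding restGensOK t
    refine ⟨r, hr, restrict_gen (rest_restricts.1 ▸ ht) ?_ hr1⟩
    rw [hgp, genAt, List.getD_eq_getElem _ _ ht]
  | one => exact ⟨1, one_mem _, fun k => rfl⟩
  | mul x y _ _ hx hy =>
    obtain ⟨a, ha, hx⟩ := hx
    obtain ⟨b, hb, hy⟩ := hy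
    exact ⟨a * b, mul_mem ha hb, fun k => by rw [Equiv.Perm.mul_apply, hy, hx, Equiv.Perm.mul_apply]⟩
  | inv x _ hx =>
    obtain ⟨a, ha, hx⟩ := hx
    refine ⟨a⁻¹, inv_mem ha, fun k => ?_⟩
    rw [Equiv.Perm.inv_eq_iff_eq, hx]
    simp

/-- Restriction to the orbit. -/
def restrictHom : genGroup lineCoding unitGens →* genGroup restCoding restGens :=
  MonoidHom.mk' (fun g => ⟨(exists_restrict g.2).choose, (exists_restrict g.2).choose_spec.1⟩) fun g h => by
    refine Subtype.ext (Equiv.ext fun k => uLine_injective ?_)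
    show uLine ((exists_restrict (g * h).2).choose k) = _
    rw [← (exists_restrict (g * h).2).choose_spec.2, Subgroup.coe_mul, Equiv.Perm.mul_apply,
      (exists_restrict h.2).choose_spec.2, (exists_restrict g.2).choose_spec.2]
    rfl

theorem restrictHom_surjective : Function.Surjective restrictHom := by
  have hle : genGroup restCoding restGens ≤ restrictHom.range.map (genGroup restCoding restGens).subtype := by
    refine (Subgroup.closure_le _).2 ?_
    rintro r ⟨p, hp, hr⟩
    obtain ⟨t, ht, rfl⟩ := List.getElem_of_mem hp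
    obtain ⟨g, hg, hg1, -⟩ := pairOK_genAt lineCoding unitGensOK.1 t
    refine ⟨restrictHom ⟨g, hg⟩, ⟨_, rfl⟩, Equiv.ext fun k => uLine_injective ?_⟩
    show uLine ((exists_restrict hg).choose k) = _
    rw [← (exists_restrict hg).choose_spec.2]
    exact restrict_gen (rest_restricts.2.1 ▸ ht) hg1 (by rw [hr, genAt, List.getD_eq_getElem _ _ ht]) k
  intro r
  obtain ⟨r', ⟨g, rfl⟩, h⟩ := hle r.2
  exact ⟨g, Subtype.ext h⟩

/-- The matrices of the generators. -/
def unitMat : Fin 2 → M9 :=
  ![ofNums ![![2, 0, 0], ![8, 1, 0], ![1, 5, 2]], ofNums ![![0, 0, 1], ![0, 2, 4], ![1, 7, 5]]]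

theorem unitMat_ok : ∀ t : Fin 2, Cond (unitMat t) ∧
    Nat.beq (packP 6 (fun i => if h : i < 63 then (ptImage (unitMat t) ⟨i, h⟩).1 else i) 63)
      (genAt restGens (permOps 6 63) t).1 = true := by
  decide +kernel

theorem rest_le_range : genGroup restCoding restGens ≤ ptHom.range := by
  rw [genGroup, Subgroup.closure_le]
  rintro r ⟨p, hp, hr⟩
  obtain ⟨t, ht, rfl⟩ := List.getElem_of_mem hp
  obtain ⟨h1, h2⟩ := unitMat_ok ⟨t, rest_restricts.2.1 ▸ ht⟩
  refine ⟨ofM _ h1, restCoding.inj ?_⟩
  rw [hr, show restGens[t] = genAt restGens (permOps 6 63) t from (List.getD_eq_getElem _ _ ht).symm,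
    ← Nat.eq_of_beq_eq_true h2, restCoding, permCoding_enc, encP]
  refine packP_congr fun i hi => ?_
  simp only [imgP, dif_pos hi, Equiv.refl_apply, Equiv.refl_symm, ptHom_ofM]

theorem nonempty_unit_equiv : Nonempty (genGroup lineCoding unitGens ≃* Cfsg.PSU 3 Nine 3) := by
  have h1 : Function.Bijective restrictHom :=
    (Nat.bijective_iff_surjective_and_card restrictHom).2 ⟨restrictHom_surjective, by rw [card_unit, card_rest]⟩
  have hrange : genGroup restCoding restGens = ptHom.range := by
    refine Subgroup.eq_of_le_of_card_ge rest_le_range ?_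
    rw [card_rest, ← natCard_SU9]
    exact Nat.card_le_card_of_surjective _ ptHom.rangeRestrict_surjective
  have h2 : Function.Bijective ptHom.rangeRestrict :=
    (Nat.bijective_iff_surjective_and_card ptHom.rangeRestrict).2
      ⟨ptHom.rangeRestrict_surjective, by rw [← hrange, card_rest, natCard_SU9]⟩
  exact ⟨(MulEquiv.ofBijective restrictHom h1).trans ((MulEquiv.subgroupCongr hrange).trans
    ((MulEquiv.ofBijective ptHom.rangeRestrict h2).symm.trans
      ((QuotientGroup.quotientMulEquivOfEq center_trivial).trans QuotientGroup.quotientBot).symm))⟩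

/-- The Hall-Janko group as the 315-point group. -/
def j2Lines : J2 ≃* genGroup lineCoding permGens := j2Equiv.trans (MulEquiv.subgroupCongr lineHom_range)

/-- The subgroup `PSU₃(3)` of the Hall-Janko group. -/
def unitSubgroup : Subgroup J2 :=
  ((genGroup lineCoding unitGens).subgroupOf (genGroup lineCoding permGens)).comap j2Lines.toMonoidHom

theorem mem_unitSubgroup {x : J2} :
    x ∈ unitSubgroup ↔ (j2Lines x : Equiv.Perm (Fin 315)) ∈ genGroup lineCoding unitGens := Iff.rfl

theorem nonempty_unitSubgroup_equiv : Nonempty (unitSubgroup ≃* Cfsg.PSU 3 Nine 3) := by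
  obtain ⟨f⟩ := nonempty_unit_equiv
  have hmap : unitSubgroup.map j2Lines.toMonoidHom =
      (genGroup lineCoding unitGens).subgroupOf (genGroup lineCoding permGens) :=
    Subgroup.map_comap_eq_self_of_surjective j2Lines.surjective _
  exact ⟨(((j2Lines.subgroupMap unitSubgroup).trans (MulEquiv.subgroupCongr hmap)).trans
    (Subgroup.subgroupOfEquivOfLe unitGensOK.2)).trans f⟩

theorem index_unitSubgroup : unitSubgroup.index = 100 := by
  have h := unitSubgroup.card_mul_index
  obtain ⟨f⟩ := nonempty_unit_equiv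
  obtain ⟨f'⟩ := nonempty_unitSubgroup_equiv
  rw [Nat.card_congr (f'.trans f.symm).toEquiv, card_unit, card_J2] at h
  omega

/-- The bit set of the image of the orbit. -/
def cosetInv (x : J2) : ℕ := lineMask (lineCoding.enc (j2Lines x : Equiv.Perm (Fin 315)))

theorem lineMask_enc (g : Equiv.Perm (Fin 315)) :
    lineMask (lineCoding.enc g) = ∑ k : Fin 63, 1 <<< (g (uLine k) : ℕ) := by
  have hf : ∀ l : List ℕ, l.foldr Nat.add 0 = l.sum := fun l => rfl
  rw [lineMask, forceNat_eq, hf, unitLines_eq, List.map_ofFn, List.sum_ofFn]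
  refine Finset.sum_congr rfl fun k _ => ?_
  show Nat.shiftLeft 1 _ = _
  rw [lineCoding]
  exact congrArg (Nat.shiftLeft 1) (permCoding_act 9 (Equiv.refl (Fin 315)) (by norm_num) g (uLine k))

theorem cosetInv_mul_right {x h : J2} (hh : h ∈ unitSubgroup) : cosetInv (x * h) = cosetInv x := by
  obtain ⟨r, -, hr⟩ := exists_restrict (mem_unitSubgroup.1 hh)
  rw [cosetInv, cosetInv, lineMask_enc, lineMask_enc, map_mul]
  simp only [Subgroup.coe_mul, Equiv.Perm.mul_apply, hr]
  exact Equiv.sum_comp r fun k => 1 <<< ((j2Lines x : Equiv.Perm (Fin 315)) (uLine k) : ℕ)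

/-- The bit set of a coset. -/
def cosetInvQ : J2 ⧸ unitSubgroup → ℕ :=
  Quotient.lift cosetInv fun a b h => by
    rw [← cosetInv_mul_right (x := a) (QuotientGroup.leftRel_apply.1 h), mul_inv_cancel_left]

theorem cosetInvQ_mk (x : J2) : cosetInvQ (x : J2 ⧸ unitSubgroup) = cosetInv x := rfl

/-- A coset representative. -/
def cosetRep (i : ℕ) : J2 :=
  j2Lines.symm ⟨(pairOK_pathEval lineCoding gensOK_lines chain_ok (cosetPaths.getD i [])).choose,
    (pairOK_pathEval lineCoding gensOK_lines chain_ok (cosetPaths.getD i [])).choose_spec.1⟩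

theorem enc_cosetRep (i : ℕ) : lineCoding.enc (j2Lines (cosetRep i) : Equiv.Perm (Fin 315)) =
    (pathEval (permOps 9 315) permChain (cosetPaths.getD i [])).1 := by
  rw [cosetRep, MulEquiv.apply_symm_apply]
  exact (pairOK_pathEval lineCoding gensOK_lines chain_ok (cosetPaths.getD i [])).choose_spec.2.1

theorem cosetInv_rep (i : ℕ) : cosetInv (cosetRep i) = cosetMask i := by
  rw [cosetInv, enc_cosetRep, cosetMask]

theorem cosetMask_injective : Function.Injective fun i : Fin 100 => cosetMask i.1 := by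
  have hpw : ((List.range 100).map cosetMask).Pairwise (· < ·) := by
    generalize hxs : (List.range 100).map cosetMask = xs
    have hinc := cosets_ok.2
    rw [hxs] at hinc
    clear hxs
    rw [← List.isChain_iff_pairwise]
    induction xs with
    | nil => simp
    | cons a xs ih =>
      cases xs with
      | nil => simp
      | cons b xs =>
        simp only [increasing, Bool.and_eq_true] at hinc
        exact List.isChain_cons_cons.2 ⟨by simpa [Nat.blt_eq] using hinc.1, ih hinc.2⟩
  intro i j h
  exact Fin.ext (List.inj_on_of_nodup_map hpw.nodup (List.mem_range.2 i.2) (List.mem_range.2 j.2) h)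

theorem cosetInvQ_injective : Function.Injective cosetInvQ := by
  have hcard : Nat.card (J2 ⧸ unitSubgroup) = 100 := index_unitSubgroup
  haveI : Finite (J2 ⧸ unitSubgroup) := Nat.finite_of_card_ne_zero (by omega)
  let r : Fin 100 → J2 ⧸ unitSubgroup := fun i => (cosetRep i.1 : J2 ⧸ unitSubgroup)
  have hr : ∀ i, cosetInvQ (r i) = cosetMask i.1 := fun i => cosetInv_rep i.1
  have hri : Function.Injective r := fun i j h => cosetMask_injective (by
    show cosetMask i.1 = cosetMask j.1
    rw [← hr, ← hr, h])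
  have hb : Function.Bijective r :=
    (Nat.bijective_iff_injective_and_card r).2 ⟨hri, by rw [Nat.card_fin, hcard]⟩
  intro a b h
  obtain ⟨i, rfl⟩ := hb.2 a
  obtain ⟨j, rfl⟩ := hb.2 b
  rw [hr, hr] at h
  exact congrArg r (cosetMask_injective h)

theorem smul_coset (g x : J2) : g • (x : J2 ⧸ unitSubgroup) = ((g * x : J2) : J2 ⧸ unitSubgroup) := rfl

attribute [local irreducible] cosetMask lineMask cosetRep cosetInv cosetInvQ unitSubgroup

theorem orbit_ncard {rows : List (ℕ × ℕ × ℕ)} {n : ℕ} (hn : 0 < n) (hlen : rows.length = n)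
    (hlt : rows.all (fun r => Nat.blt r.1 100) = true) (hclosed : orbitClosed rows = true)
    (hlink : orbitLinked rows = true)
    (hnd : ((List.range n).all fun p => (List.range p).all fun q =>
      !Nat.beq (rows.getD p (0, 0, 0)).1 (rows.getD q (0, 0, 0)).1) = true) :
    (MulAction.orbit unitSubgroup ((cosetRep (rows.getD 0 (0, 0, 0)).1 : J2) : J2 ⧸ unitSubgroup)).ncard = n := by
  let pt : Fin n → J2 ⧸ unitSubgroup := fun p => (cosetRep (rows.getD p.1 (0, 0, 0)).1 : J2 ⧸ unitSubgroup)
  have hmem : ∀ p : Fin n, rows.getD p.1 (0, 0, 0) ∈ rows := fun p => by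
    rw [List.getD_eq_getElem _ _ (hlen ▸ p.2)]; exact List.getElem_mem _
  have hb : ∀ p : Fin n, (rows.getD p.1 (0, 0, 0)).1 < 100 := fun p => by
    simpa [Nat.blt_eq] using List.all_eq_true.1 hlt _ (hmem p)
  have hinj : Function.Injective pt := by
    have key : ∀ p q : Fin n, q.1 < p.1 → pt p ≠ pt q := fun p q hlt' he => by
      have h := List.all_eq_true.1 (List.all_eq_true.1 hnd p.1 (List.mem_range.2 p.2)) q.1 (List.mem_range.2 hlt')
      rw [Bool.not_eq_true', ← Bool.not_eq_true] at h
      refine h ?_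
      have hm : cosetMask (rows.getD p.1 (0, 0, 0)).1 = cosetMask (rows.getD q.1 (0, 0, 0)).1 := by
        rw [← cosetInv_rep, ← cosetInv_rep, ← cosetInvQ_mk, ← cosetInvQ_mk]; exact congrArg cosetInvQ he
      have hpq : (rows.getD p.1 (0, 0, 0)).1 = (rows.getD q.1 (0, 0, 0)).1 :=
        congrArg Fin.val (cosetMask_injective (a₁ := ⟨_, hb p⟩) (a₂ := ⟨_, hb q⟩) hm)
      rw [hpq]
      exact Nat.beq_refl _
    intro p q he
    rcases lt_trichotomy p.1 q.1 with h | h | h
    · exact absurd he.symm (key q p h)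
    · exact Fin.ext h
    · exact absurd he (key p q h)
  have hT : (Set.range pt).ncard = n := by rw [Set.ncard_range_of_injective hinj, Nat.card_fin]
  have hstab : unitSubgroup ≤ MulAction.stabilizer J2 (Set.range pt) := by
    intro x hx
    have hK : genGroup lineCoding unitGens ≤
        ((MulAction.stabilizer J2 (Set.range pt)).map j2Lines.toMonoidHom).map
          (genGroup lineCoding permGens).subtype := by
      refine (Subgroup.closure_le _).2 ?_
      rintro g ⟨s, hs, hg⟩
      have hgmem : g ∈ genGroup lineCoding permGens := unitGensOK.2 (mem_genGroup_of_enc lineCoding hs hg)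
      refine ⟨⟨g, hgmem⟩, ⟨j2Lines.symm ⟨g, hgmem⟩, ?_, j2Lines.apply_symm_apply _⟩, rfl⟩
      rw [SetLike.mem_coe, MulAction.mem_stabilizer_iff]
      haveI : Finite (Set.range pt) := inferInstance
      refine Set.eq_of_subset_of_ncard_le ?_ (le_of_eq ?_) (Set.toFinite _)
      · rintro _ ⟨_, ⟨p, rfl⟩, rfl⟩
        have h := List.all_eq_true.1 (List.all_eq_true.1 hclosed _ (hmem p)) s hs
        rw [forceNat_eq, forceNat_eq, List.any_eq_true] at h
        obtain ⟨q, hq, hqm⟩ := h
        obtain ⟨q', hq', rfl⟩ := List.getElem_of_mem hq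
        refine ⟨⟨q', hlen ▸ hq'⟩, cosetInvQ_injective ?_⟩
        simp only [pt, smul_coset, cosetInvQ_mk]
        rw [cosetInv_rep, List.getD_eq_getElem _ _ hq', Nat.eq_of_beq_eq_true hqm, cosetInv, map_mul,
          j2Lines.apply_symm_apply, Subgroup.coe_mul, ← lineCoding.mul_enc, enc_cosetRep]
        exact congrArg (fun c => lineMask ((permOps 9 315).mul c _)) hg.symm
      · rw [Set.ncard_smul_set]
    obtain ⟨_, ⟨y, hy, rfl⟩, hyx⟩ := hK (mem_unitSubgroup.1 hx)
    obtain rfl : y = x := j2Lines.injective (Subtype.ext hyx)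
    exact hy
  suffices h : MulAction.orbit unitSubgroup (pt ⟨0, hn⟩) = Set.range pt by
    rw [← hT, ← h]
  refine Set.Subset.antisymm ?_ ?_
  · rintro _ ⟨x, rfl⟩
    rw [← MulAction.mem_stabilizer_iff.1 (hstab x.2)]
    exact Set.smul_mem_smul_set (Set.mem_range_self (f := pt) (⟨0, hn⟩ : Fin n))
  · rintro _ ⟨p, rfl⟩
    obtain ⟨p, hp⟩ := p
    induction p using Nat.strong_induction_on with
    | _ p ih =>
      have h := List.all_eq_true.1 hlink p (List.mem_range.2 (hlen.symm ▸ hp))
      simp only [Bool.or_eq_true, Bool.and_eq_true, Nat.blt_eq, forceNat_eq] at h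
      rcases h with h0 | ⟨⟨hpar, hgi⟩, hm⟩
      · obtain rfl : p = 0 := Nat.eq_of_beq_eq_true h0
        exact MulAction.mem_orbit_self _
      · obtain ⟨s, hs, hs1, -⟩ := pairOK_genAt lineCoding unitGensOK.1 (rows.getD p (0, 0, 0)).2.1
        have hsG := unitGensOK.2 hs
        have hx : j2Lines.symm ⟨s, hsG⟩ ∈ unitSubgroup := by
          rw [mem_unitSubgroup, j2Lines.apply_symm_apply]; exact hs
        have hih := ih _ hpar (lt_trans hpar hp)
        have heq : pt ⟨p, hp⟩ = (⟨_, hx⟩ : unitSubgroup) • pt ⟨_, lt_trans hpar hp⟩ := by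
          apply cosetInvQ_injective
          rw [show ((⟨_, hx⟩ : unitSubgroup) • pt ⟨_, lt_trans hpar hp⟩) =
              ((j2Lines.symm ⟨s, hsG⟩ * cosetRep (rows.getD (rows.getD p (0, 0, 0)).2.2 (0, 0, 0)).1 : J2) : J2 ⧸ unitSubgroup) from rfl]
          simp only [pt, cosetInvQ_mk]
          rw [cosetInv_rep, ← Nat.eq_of_beq_eq_true hm, cosetInv, map_mul, j2Lines.apply_symm_apply,
            Subgroup.coe_mul, ← lineCoding.mul_enc, enc_cosetRep, hs1]
        rw [heq]
        exact MulAction.mem_orbit_of_mem_orbit _ hih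

/-- The rank three permutation representation on 100 points. -/
theorem exists_unitary_subgroup : ∃ H : Subgroup J2, H.index = 100 ∧
    (∃ (F : Type) (_ : Field F) (_ : Fintype F), Fintype.card F = 9 ∧ Nonempty (↥H ≃* Cfsg.PSU 3 F 3)) ∧
    ∃ c₁ c₂ : J2 ⧸ H, (MulAction.orbit ↥H c₁).ncard = 36 ∧ (MulAction.orbit ↥H c₂).ncard = 63 :=
  ⟨unitSubgroup, index_unitSubgroup, ⟨Nine, inferInstance, inferInstance, card_nine, nonempty_unitSubgroup_equiv⟩,
    _, _, orbit_ncard (by norm_num) orbit36_ok.1 orbit36_ok.2.1 orbit36_ok.2.2.1 orbit36_ok.2.2.2 orbit36_nodup,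
    orbit_ncard (by norm_num) orbit63_ok.1 orbit63_ok.2.1 orbit63_ok.2.2.1 orbit63_ok.2.2.2 orbit63_nodup⟩

end Cfsg.Agent.Lib.Icosian
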